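import Groth.Agent.TFDualLib.Canonical
import Groth.Agent.ValSemiLib.Basic

/-!
# Value sets of duals into a canonical ideal of a closed subalgebra of `k[[t]]`
-/

set_option autoImplicit false
set_option backward.isDefEq.respectTransparency false
set_option linter.style.haveILetI false
set_option maxSynthPendingDepth 3
set_option synthInstance.maxHeartbeats 400000

universe u

open CategoryTheory Abelian PowerSeries

namespace CanonDualLib

variable {k : Type u} [Field k] (A : Subalgebra k (PowerSeries k))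

theorem smul_eq (a : A) (x : PowerSeries k) : a • x = (a : PowerSeries k) * x := rfl

/-- Series of order at least `j`. -/
def T (j : ℕ) : Submodule ↥A (PowerSeries k) where
  carrier := {x | (j : ℕ∞) ≤ order x}
  add_mem' := fun {x y} hx hy => (le_min hx hy).trans (min_order_le_order_add x y)
  zero_mem' := by simp
  smul_mem' := fun a x hx => by
    show (j : ℕ∞) ≤ order ((a : PowerSeries k) * x)
    exact (le_trans hx le_add_self).trans (le_order_mul _ _)

theorem mem_T {j : ℕ} {x : PowerSeries k} : x ∈ T A j ↔ (j : ℕ∞) ≤ order x := Iff.rfl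

/-- The augmentation ideal. -/
noncomputable def aug : Ideal ↥A := RingHom.ker ((constantCoeff (R := k)).comp A.val.toRingHom)

theorem mem_aug {a : A} : a ∈ aug A ↔ constantCoeff (a : PowerSeries k) = 0 := Iff.rfl

theorem smul_pow_mem {a : A} (ha : a ∈ aug A) (m : ℕ) : a • (X : PowerSeries k) ^ m ∈ T A (m + 1) := by
  have h1 : (1 : ℕ∞) ≤ order (a : PowerSeries k) := nat_le_order _ 1 fun i hi => by
    obtain rfl : i = 0 := by omega
    rw [coeff_zero_eq_constantCoeff_apply]; exact (mem_aug A).1 ha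
  rw [mem_T, smul_eq, order_mul, order_X_pow, Nat.cast_succ, add_comm]
  exact add_le_add h1 le_rfl

theorem socle_seq {N : Submodule ↥A (PowerSeries k)} {z : PowerSeries k} (hz : z ∉ N)
    (hm : ∀ a ∈ aug A, a • z ∈ N) :
    ∃ p : ↥(N ⊔ Submodule.span ↥A {z}) →ₗ[↥A] ↥A ⧸ aug A, Function.Surjective p ∧
      Function.Exact (Submodule.inclusion (le_sup_left : N ≤ N ⊔ Submodule.span ↥A {z})) p := by
  set B := N ⊔ Submodule.span ↥A {z}
  have hzB : z ∈ B := Submodule.mem_sup_right (Submodule.mem_span_singleton_self z)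
  let N' : Submodule ↥A B := LinearMap.range (Submodule.inclusion (le_sup_left : N ≤ B))
  let g : ↥A →ₗ[↥A] (↥B ⧸ N') := LinearMap.toSpanSingleton ↥A _ (Submodule.Quotient.mk ⟨z, hzB⟩)
  have hg : Function.Surjective g := fun q => by
    obtain ⟨⟨b, hb⟩, rfl⟩ := Submodule.Quotient.mk_surjective _ q
    obtain ⟨x, hx, w, hw, rfl⟩ := Submodule.mem_sup.1 hb
    obtain ⟨o, rfl⟩ := Submodule.mem_span_singleton.1 hw
    refine ⟨o, ?_⟩
    show o • Submodule.Quotient.mk (p := N') (⟨z, hzB⟩ : B) = _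
    rw [← Submodule.Quotient.mk_smul, Submodule.Quotient.eq]
    exact ⟨⟨-x, N.neg_mem hx⟩, Subtype.ext (by show -x = o • z - (x + o • z); abel)⟩
  have hker : LinearMap.ker g = aug A := by
    ext o
    rw [LinearMap.mem_ker, show g o = Submodule.Quotient.mk (o • (⟨z, hzB⟩ : B)) from rfl,
      Submodule.Quotient.mk_eq_zero]
    constructor
    · rintro ⟨a, ha⟩
      by_contra h
      have ha' : o • z ∈ N := by
        have e : (a : PowerSeries k) = o • z := congrArg Subtype.val ha
        exact e ▸ a.2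
      let c₀ := constantCoeff (o : PowerSeries k)
      have hc₀ : c₀ ≠ 0 := fun h0 => h ((mem_aug A).2 h0)
      have hd : o - algebraMap k ↥A c₀ ∈ aug A := (mem_aug A).2 (by
        rw [AddSubgroupClass.coe_sub, map_sub, show ((algebraMap k ↥A c₀ : ↥A) : PowerSeries k) = C c₀ from rfl,
          constantCoeff_C, sub_self])
      have h1 : algebraMap k ↥A c₀ • z ∈ N := by
        have := N.sub_mem ha' (hm _ hd)
        rwa [sub_smul, sub_sub_cancel] at this
      apply hz
      have := N.smul_mem (algebraMap k ↥A c₀⁻¹) h1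
      rwa [smul_smul, ← map_mul, inv_mul_cancel₀ hc₀, map_one, one_smul] at this
    · exact fun ho => ⟨⟨o • z, hm o ho⟩, rfl⟩
  let e := (g.quotKerEquivOfSurjective hg).symm.trans (Submodule.quotEquivOfEq _ _ hker)
  refine ⟨e.toLinearMap ∘ₗ N'.mkQ, e.surjective.comp (Submodule.mkQ_surjective _), fun b => ?_⟩
  show e (N'.mkQ b) = 0 ↔ _
  rw [map_eq_zero_iff e e.injective, Submodule.mkQ_apply, Submodule.Quotient.mk_eq_zero]
  exact Iff.rfl

section

variable {c : ℕ} (hcA : ∀ f : PowerSeries k, (c : ℕ∞) ≤ order f → f ∈ A)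
  {W : Submodule ↥A (PowerSeries k)}

include hcA

theorem X_pow_mul_mem (x : PowerSeries k) : X ^ c * x ∈ A :=
  hcA _ ((by rw [order_X_pow]; exact le_self_add : (c : ℕ∞) ≤ order ((X : PowerSeries k) ^ c) + order x).trans
    (le_order_mul _ _))

/-- Maps out of a fractional ideal are multiplications. -/
theorem hom_mul {N : Submodule ↥A (PowerSeries k)} (φ : N →ₗ[↥A] W) (x y : N) :
    (y : PowerSeries k) * ((φ x : W) : PowerSeries k) = (x : PowerSeries k) * ((φ y : W) : PowerSeries k) := by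
  let a : ↥A := ⟨_, X_pow_mul_mem A hcA (x : PowerSeries k)⟩
  let b : ↥A := ⟨_, X_pow_mul_mem A hcA (y : PowerSeries k)⟩
  have h : a • y = b • x := Subtype.ext (by
    show (X : PowerSeries k) ^ c * (x : PowerSeries k) * (y : PowerSeries k) =
      X ^ c * (y : PowerSeries k) * (x : PowerSeries k)
    ring)
  have h2 := congrArg (fun q : N => ((φ q : W) : PowerSeries k)) h
  simp only [map_smul, Submodule.coe_smul] at h2
  have h' : X ^ c * (x : PowerSeries k) * ((φ y : W) : PowerSeries k) =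
      X ^ c * (y : PowerSeries k) * ((φ x : W) : PowerSeries k) := h2
  rw [mul_assoc, mul_assoc] at h'
  exact (mul_left_cancel₀ (pow_ne_zero _ X_ne_zero) h').symm

variable (hW1 : (1 : PowerSeries k) ∈ W) (hW : HasInjectiveDimensionLT (ModuleCat.of ↥A ↥W) 2)

include hW1 in
theorem T_le : T A c ≤ W := fun f hf => by
  have := W.smul_mem ⟨f, hcA f hf⟩ hW1
  rwa [smul_eq, mul_one] at this

include hW

theorem ext_vanish (N : Submodule ↥A (PowerSeries k)) :
    Subsingleton (Ext.{u} (ModuleCat.of ↥A ↥N) (ModuleCat.of ↥A ↥W) 1) := by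
  let f : N →ₗ[↥A] ↥A :=
    { toFun := fun x => ⟨_, X_pow_mul_mem A hcA (x : PowerSeries k)⟩
      map_add' := fun x y => Subtype.ext (by simp [mul_add])
      map_smul' := fun a x => Subtype.ext (by
        show X ^ c * ((a : PowerSeries k) * (x : PowerSeries k)) = (a : PowerSeries k) * (X ^ c * (x : PowerSeries k))
        ring) }
  exact Groth.Agent.TFDualLib.subsingleton_ext hW f (fun x y h => Subtype.ext
    (mul_left_cancel₀ (pow_ne_zero _ X_ne_zero)
      (congrArg Subtype.val h : X ^ c * (x : PowerSeries k) = X ^ c * (y : PowerSeries k)))) 1 le_rfl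

include hW1

/-- A map that does not extend over a socle element. -/
theorem exists_not_extend {N : Submodule ↥A (PowerSeries k)} {z : PowerSeries k} (hz : z ∉ N)
    (hm : ∀ a ∈ aug A, a • z ∈ N) :
    ∃ φ : N →ₗ[↥A] W, ∀ ψ : ↥(N ⊔ Submodule.span ↥A {z}) →ₗ[↥A] W,
      ψ ∘ₗ Submodule.inclusion le_sup_left ≠ φ := by
  by_contra hne
  push Not at hne
  obtain ⟨p, hp, hex⟩ := socle_seq A hz hm
  let N' := N ⊔ Submodule.span ↥A {z}
  let ι : N →ₗ[↥A] N' := Submodule.inclusion le_sup_left
  let S : ShortComplex (ModuleCat.{u} ↥A) := ShortComplex.mk (ModuleCat.ofHom ι) (ModuleCat.ofHom p) (by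
    ext x; exact hex.apply_apply_eq_zero x)
  have hS : S.ShortExact :=
    { exact := (ShortComplex.ShortExact.moduleCat_exact_iff_function_exact _).2 hex
      mono_f := (ModuleCat.mono_iff_injective _).2 (Submodule.inclusion_injective (le_sup_left : N ≤ N'))
      epi_g := (ModuleCat.epi_iff_surjective _).2 hp }
  haveI := ext_vanish A hcA hW N'
  haveI : Subsingleton (Ext.{u} (ModuleCat.of ↥A (↥A ⧸ aug A)) (ModuleCat.of ↥A ↥W) 1) := by
    refine subsingleton_of_forall_eq 0 fun x => ?_
    obtain ⟨x₁, hx₁⟩ := Ext.contravariant_sequence_exact₃ hS _ x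
      (Subsingleton.elim (α := Ext.{u} (ModuleCat.of ↥A ↥N') (ModuleCat.of ↥A ↥W) 1) _ _) (n₀ := 0) (add_zero 1)
    obtain ⟨f, rfl⟩ := Ext.mk₀_bijective _ _ |>.2 x₁
    obtain ⟨ψ, hψ⟩ := hne f.hom
    have hf : f = ModuleCat.ofHom ι ≫ ModuleCat.ofHom ψ := ModuleCat.hom_ext hψ.symm
    rw [← hx₁, hf, ← Ext.mk₀_comp_mk₀]
    exact hS.extClass_comp_assoc _
  -- an extension of `k` by `W` which does not split
  classical
  have hex' : ∃ j, T A j ≤ W := ⟨c, T_le A hcA hW1⟩
  set e := Nat.find hex' with he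
  have heW : T A e ≤ W := Nat.find_spec hex'
  let L : W →ₗ[↥A] PowerSeries k :=
    { toFun := fun w => X * (w : PowerSeries k)
      map_add' := fun x y => by simp [mul_add]
      map_smul' := fun a x => by
        show X * ((a : PowerSeries k) * (x : PowerSeries k)) = (a : PowerSeries k) * (X * (x : PowerSeries k))
        ring }
  have hz' : (X : PowerSeries k) ^ e ∉ LinearMap.range L := by
    rintro ⟨w, hw⟩
    have hw' : X * (w : PowerSeries k) = X ^ e := hw
    rcases Nat.eq_zero_or_pos e with h0 | h0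
    · have := congrArg constantCoeff hw'
      simp [h0] at this
    · refine Nat.find_min hex' (show e - 1 < e by omega) fun x hx => ?_
      have hw1 : (w : PowerSeries k) = X ^ (e - 1) := mul_left_cancel₀ (a := (X : PowerSeries k)) X_ne_zero
        (by rw [hw', ← pow_succ']; congr 1; omega)
      let a := coeff (e - 1) x
      have hxa : x - a • (w : PowerSeries k) ∈ T A e := nat_le_order _ _ fun i hi => by
        rw [map_sub, coeff_smul, hw1, coeff_X_pow]
        rcases eq_or_ne i (e - 1) with rfl | hne'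
        · simp [a]
        · rw [if_neg hne', smul_zero, sub_zero]
          exact coeff_of_lt_order _ (lt_of_lt_of_le (by exact_mod_cast (show i < e - 1 by omega)) ((mem_T A).1 hx))
      have : a • (w : PowerSeries k) ∈ W := W.smul_of_tower_mem a w.2
      simpa using W.add_mem (heW hxa) this
  have hm' : ∀ a ∈ aug A, a • (X : PowerSeries k) ^ e ∈ LinearMap.range L := fun a ha => by
    obtain ⟨y, hy⟩ := X_pow_dvd_iff.2 fun i (hi : i < e + 1) =>
      coeff_of_lt_order i (lt_of_lt_of_le (by exact_mod_cast hi) ((mem_T A).1 (smul_pow_mem A ha e)))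
    refine ⟨⟨X ^ e * y, heW ((mem_T A).2 (le_trans (by rw [order_X_pow]; exact le_self_add)
      (le_order_mul _ _)))⟩, ?_⟩
    show X * (X ^ e * y) = a • (X : PowerSeries k) ^ e
    rw [hy, pow_succ']; ring
  obtain ⟨q, hq, hqex⟩ := socle_seq A hz' hm'
  let L' : W →ₗ[↥A] ↥(LinearMap.range L ⊔ Submodule.span ↥A {(X : PowerSeries k) ^ e}) :=
    Submodule.inclusion le_sup_left ∘ₗ L.rangeRestrict
  have hL' : Function.Injective L' := fun x y h => Subtype.ext
    (mul_left_cancel₀ X_ne_zero (congrArg Subtype.val h : X * (x : PowerSeries k) = X * (y : PowerSeries k)))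
  have hL'ex : Function.Exact L' q := fun b => (hqex b).trans
    ⟨fun ⟨a, ha⟩ => by obtain ⟨w, hw⟩ := L.surjective_rangeRestrict a; exact ⟨w, by rw [← ha, ← hw]; rfl⟩,
      fun ⟨w, hw⟩ => ⟨L.rangeRestrict w, hw⟩⟩
  obtain ⟨ρ, hρ⟩ := Groth.Agent.TFDualLib.lcomp_surjective (W := ↥W) L' q hL' hq hL'ex LinearMap.id
  let zz : ↥(LinearMap.range L ⊔ Submodule.span ↥A {(X : PowerSeries k) ^ e}) :=
    ⟨_, Submodule.mem_sup_right (Submodule.mem_span_singleton_self _)⟩
  have h1 := hom_mul A hcA (W := W) ρ zz (L' ⟨1, hW1⟩)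
  rw [show ρ (L' ⟨1, hW1⟩) = ⟨1, hW1⟩ from LinearMap.congr_fun hρ _] at h1
  exact hz' ⟨ρ zz, by
    show X * ((ρ zz : W) : PowerSeries k) = X ^ e
    simpa [L', L, zz] using h1⟩

/-- The dual value set. -/
theorem value_dual : ∃ e : ℕ, e ≤ c ∧
    (∀ M : Submodule ↥A (PowerSeries k), (1 : PowerSeries k) ∈ M →
      (∀ n : ℕ, e ≤ n → ∃ u : PowerSeries k, order u = n ∧ ∀ f ∈ M, u * f ∈ W) ∧
      ∀ m : ℕ, ((∃ f ∈ M, order f = (m : ℕ∞)) ↔
        ¬ (m < e ∧ ∃ u : PowerSeries k, order u = ((e - 1 - m : ℕ) : ℕ∞) ∧ ∀ f ∈ M, u * f ∈ W))) := by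
  classical
  have hex' : ∃ j, T A j ≤ W := ⟨c, T_le A hcA hW1⟩
  set e := Nat.find hex' with he
  have heW : T A e ≤ W := Nat.find_spec hex'
  refine ⟨e, Nat.find_le (T_le A hcA hW1), fun M hM1 => ⟨fun n hn => ?_, fun m => ?_⟩⟩
  · refine ⟨X ^ n, order_X_pow n, fun f _ => heW ((mem_T A).2 (le_trans ?_ (le_order_mul _ _)))⟩
    rw [order_X_pow]
    exact le_trans (by exact_mod_cast hn) le_self_add
  constructor
  · rintro ⟨f, hf, hfm⟩ ⟨hme, u, hu, huM⟩
    have ho : order (u * f) = ((e - 1 : ℕ) : ℕ∞) := by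
      rw [order_mul, hu, hfm, ← Nat.cast_add]
      congr 1
      omega
    refine Nat.find_min hex' (show e - 1 < e by omega) fun x hx => ?_
    have hne := (order_eq_nat.1 ho).1
    let a := coeff (e - 1) x / coeff (e - 1) (u * f)
    have hxa : x - a • (u * f) ∈ T A e := nat_le_order _ _ fun i hi => by
      rw [map_sub, coeff_smul]
      rcases eq_or_ne i (e - 1) with rfl | hne'
      · rw [smul_eq_mul, div_mul_cancel₀ _ hne, sub_self]
      · have hlt : i < e - 1 := by omega
        rw [coeff_of_lt_order i (lt_of_lt_of_le (by exact_mod_cast hlt) ((mem_T A).1 hx)),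
          coeff_of_lt_order i (by rw [ho]; exact_mod_cast hlt), smul_zero, sub_zero]
    simpa using W.add_mem (heW hxa) (W.smul_of_tower_mem a (huM f hf))
  · intro hno
    by_contra hm
    push Not at hm
    let N := M ⊔ T A (m + 1)
    have hz : (X : PowerSeries k) ^ m ∉ N := fun h => by
      obtain ⟨f, hf, r, hr, hfr⟩ := Submodule.mem_sup.1 h
      refine hm f hf (order_eq_nat.2 ⟨?_, fun i hi => ?_⟩)
      all_goals
        rw [eq_sub_of_add_eq hfr, map_sub, coeff_X_pow, coeff_of_lt_order _ (lt_of_lt_of_le (by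
          exact_mod_cast (show _ < m + 1 by omega)) ((mem_T A).1 hr)), sub_zero]
      · simp
      · rw [if_neg (by omega)]
    obtain ⟨φ, hφ⟩ := exists_not_extend A hcA hW1 hW hz
      (fun a ha => Submodule.mem_sup_right (smul_pow_mem A ha m))
    let one' : N := ⟨1, Submodule.mem_sup_left hM1⟩
    set u : PowerSeries k := ((φ one' : W) : PowerSeries k) with hu
    have hφu : ∀ x : N, ((φ x : W) : PowerSeries k) = u * x := fun x => by
      have := hom_mul A hcA φ x one'
      simpa [one', mul_comm, hu] using this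
    have huN : ∀ x ∈ N, u * x ∈ W := fun x hx => hφu ⟨x, hx⟩ ▸ (φ ⟨x, hx⟩).2
    have hlo : order u + (m : ℕ∞) < (e : ℕ∞) := by
      by_contra hge
      have hall : ∀ x ∈ N ⊔ Submodule.span ↥A {(X : PowerSeries k) ^ m}, u * x ∈ W := fun x hx => by
        obtain ⟨y, hy, w, hw, rfl⟩ := Submodule.mem_sup.1 hx
        obtain ⟨o, rfl⟩ := Submodule.mem_span_singleton.1 hw
        rw [mul_add]
        refine W.add_mem (huN y hy) ?_
        rw [mul_smul_comm]
        refine W.smul_mem o (heW ((mem_T A).2 ?_))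
        rw [order_mul, order_X_pow]
        exact not_lt.1 hge
      refine hφ
        { toFun := fun x => ⟨u * (x : PowerSeries k), hall x x.2⟩
          map_add' := fun x y => Subtype.ext (by simp [mul_add])
          map_smul' := fun o x => Subtype.ext (by simp [mul_smul_comm]) } ?_
      exact LinearMap.ext fun x => Subtype.ext (hφu x).symm
    obtain ⟨o, ho⟩ := ENat.ne_top_iff_exists.1 (ne_top_of_le_ne_top (ne_top_of_lt hlo) le_self_add)
    rw [← ho] at hlo
    norm_cast at hlo
    have hlo' : e ≤ o + (m + 1) := Nat.find_le fun x hx => by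
      obtain ⟨y, hy⟩ := X_pow_dvd_iff.2 fun i (hi : i < o + (m + 1)) =>
        coeff_of_lt_order i (lt_of_lt_of_le (by exact_mod_cast hi) ((mem_T A).1 hx))
      obtain ⟨v, hv⟩ : ∃ v : PowerSeries k, X ^ o = u * v := by
        obtain ⟨u', hu'⟩ : X ^ o ∣ u := X_pow_dvd_iff.2 fun i hi =>
          coeff_of_lt_order i (by rw [← ho]; exact_mod_cast hi)
        have hunit : IsUnit u' := by
          rw [isUnit_iff_constantCoeff, isUnit_iff_ne_zero]
          intro h0
          apply (order_eq_nat.1 ho.symm).1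
          rw [hu', coeff_X_pow_mul', if_pos le_rfl, Nat.sub_self, coeff_zero_eq_constantCoeff_apply, h0]
        obtain ⟨w, rfl⟩ := hunit
        exact ⟨↑w⁻¹, by rw [hu', mul_assoc, Units.mul_inv, mul_one]⟩
      have hN : v * X ^ (m + 1) * y ∈ N := Submodule.mem_sup_right ((mem_T A).2 (by
        rw [order_mul, order_mul, order_X_pow]
        exact le_trans le_add_self le_self_add))
      have := huN _ hN
      rwa [show u * (v * X ^ (m + 1) * y) = x by rw [hy, pow_add X o (m + 1), hv]; ring] at this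
    exact hno ⟨by omega, u, by rw [← ho]; exact_mod_cast (show o = e - 1 - m by omega),
      fun f hf => huN f (Submodule.mem_sup_left hf)⟩

/-- The dual value set, in terms of the conductor. -/
theorem value_dual' (hc0 : c ≠ 0) (hc1 : ∀ f ∈ A, order f ≠ ((c - 1 : ℕ) : ℕ∞))
    (M : Submodule ↥A (PowerSeries k)) (hM1 : (1 : PowerSeries k) ∈ M) (n : ℕ) :
    (∃ u : PowerSeries k, order u = n ∧ ∀ f ∈ M, u * f ∈ W) ↔
      (c ≤ n ∨ ¬ ∃ f ∈ M, order f = ((c - 1 - n : ℕ) : ℕ∞)) := by
  obtain ⟨e, hec, he⟩ := value_dual A hcA hW1 hW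
  have hce : c ≤ e := by
    have h := ((he 1 (Submodule.one_le.1 le_rfl)).2 (c - 1)).not.1 fun ⟨f, hf, ho⟩ => by
      obtain ⟨a, rfl⟩ := Submodule.mem_one.1 hf
      exact hc1 _ a.2 ho
    have := (not_not.1 h).1
    omega
  obtain rfl : c = e := le_antisymm hce hec
  obtain ⟨hge, hiff⟩ := he M hM1
  rcases le_or_gt c n with h | h
  · exact iff_of_true (hge n h) (Or.inl h)
  rw [hiff (c - 1 - n), not_not, show c - 1 - (c - 1 - n) = n by omega]
  exact ⟨fun hu => Or.inr ⟨by omega, hu⟩, fun hu => (hu.resolve_left (not_le.2 h)).2⟩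

end

end CanonDualLib
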