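import Groth.Agent.CanonDualLib.Basic

/-!
# Submodules of `k[[t]]` over a closed subalgebra with eventually full value set
-/

set_option autoImplicit false
set_option backward.isDefEq.respectTransparency false
set_option linter.style.haveILetI false
set_option maxSynthPendingDepth 3
set_option synthInstance.maxHeartbeats 400000

universe u

open PowerSeries

namespace CanonDualLib

variable {k : Type u} [Field k] (A : Subalgebra k (PowerSeries k))

theorem exists_pos_order (hA : Module.Finite ↥A (PowerSeries k)) :
    ∃ a ∈ A, ∃ d : ℕ, 0 < d ∧ order a = d := by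
  by_contra h
  push Not at h
  haveI := hA
  have hconst : ∀ a ∈ A, ∀ i : ℕ, i ≠ 0 → coeff i a = 0 := by
    intro a ha i hi
    have h1 : a - C (constantCoeff a) ∈ A := A.sub_mem ha (A.algebraMap_mem _)
    have h2 : a - C (constantCoeff a) = 0 := by
      by_contra hne
      obtain ⟨d, hd⟩ := ENat.ne_top_iff_exists.1 (mt order_eq_top.1 hne)
      rcases Nat.eq_zero_or_pos d with rfl | hd0
      · exact (order_eq_nat.1 hd.symm).1 (by simp)
      · exact h _ h1 d hd0 hd.symm
    rw [sub_eq_zero.1 h2, coeff_C, if_neg hi]
  obtain ⟨p, hp, hp0⟩ := Algebra.IsIntegral.isIntegral (R := ↥A) (X : PowerSeries k)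
  have h1 := congrArg (coeff p.natDegree) hp0
  rw [Polynomial.eval₂_eq_sum_range, map_sum, map_zero, Finset.sum_range_succ,
    Finset.sum_eq_zero, zero_add, show (algebraMap ↥A (PowerSeries k)) (p.coeff p.natDegree) = 1 by
      rw [hp.coeff_natDegree, map_one], one_mul, coeff_X_pow_self] at h1
  · exact one_ne_zero h1
  · intro i hi
    rw [coeff_mul_X_pow', if_pos (Finset.mem_range.1 hi).le]
    exact hconst _ (p.coeff i).2 _ (by have := Finset.mem_range.1 hi; omega)

theorem le_order_sum {ι : Type*} (s : Finset ι) (f : ι → PowerSeries k) (n : ℕ∞)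
    (h : ∀ i ∈ s, n ≤ order (f i)) : n ≤ order (∑ i ∈ s, f i) := by
  classical
  induction s using Finset.induction_on with
  | empty => simp
  | insert i s hi ih =>
    rw [Finset.sum_insert hi]
    exact (le_min (h i (Finset.mem_insert_self _ _))
      (ih fun j hj => h j (Finset.mem_insert_of_mem hj))).trans (min_order_le_order_add _ _)

theorem T_le_of_orders (hA : Module.Finite ↥A (PowerSeries k))
    (hcl : ∀ f : PowerSeries k, (∀ n : ℕ, ∃ g ∈ A, (n : ℕ∞) ≤ order (f - g)) → f ∈ A)
    (N : Submodule ↥A (PowerSeries k)) (m : ℕ) (hm : ∀ l, m ≤ l → ∃ g ∈ N, order g = (l : ℕ∞)) :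
    T A m ≤ N := by
  classical
  obtain ⟨a, haA, d, hd, had⟩ := exists_pos_order A hA
  haveI : NeZero d := ⟨hd.ne'⟩
  choose g hgN hg using fun i : Fin d => hm (m + (i : ℕ)) (Nat.le_add_right _ _)
  intro f hf
  let idx : ℕ → Fin d := fun j => Fin.ofNat d j
  have ho : ∀ j : ℕ, order (a ^ (j / d) * g (idx j)) = ((m + j : ℕ) : ℕ∞) := by
    intro j
    rw [order_mul, order_pow, had, hg, nsmul_eq_mul, ← Nat.cast_mul, ← Nat.cast_add]
    congr 1
    have h1 := Nat.div_add_mod j d
    show j / d * d + (m + j % d) = m + j
    rw [mul_comm (j / d)]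
    omega
  let step : ℕ → (Fin d → PowerSeries k) → (Fin d → PowerSeries k) := fun j R =>
    R + Pi.single (idx j)
      ((coeff (m + j) (f - ∑ i, R i * g i) / coeff (m + j) (a ^ (j / d) * g (idx j))) • a ^ (j / d))
  let R : ℕ → Fin d → PowerSeries k := fun j => Nat.rec 0 step j
  have hR : ∀ j i, R (j + 1) i = R j i + (Pi.single (idx j) ((coeff (m + j) (f - ∑ i, R j i * g i) /
      coeff (m + j) (a ^ (j / d) * g (idx j))) • a ^ (j / d)) : Fin d → PowerSeries k) i := fun j i => rfl
  have hRA : ∀ j i, R j i ∈ A := by
    intro j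
    induction j with
    | zero => exact fun i => A.zero_mem
    | succ j ih =>
      intro i
      rw [hR]
      refine A.add_mem (ih i) ?_
      rw [Pi.single_apply]
      split_ifs
      · exact A.smul_mem (A.pow_mem haA _) _
      · exact A.zero_mem
  have herr : ∀ j, ((m + j : ℕ) : ℕ∞) ≤ order (f - ∑ i, R j i * g i) := by
    intro j
    induction j with
    | zero => simpa [R, mem_T] using hf
    | succ j ih =>
      set e := f - ∑ i, R j i * g i with he
      set b := a ^ (j / d) * g (idx j) with hb
      have hne := (order_eq_nat.1 (ho j)).1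
      have hs : f - ∑ i, R (j + 1) i * g i = e - (coeff (m + j) e / coeff (m + j) b) • b := by
        simp only [hR, add_mul, Finset.sum_add_distrib, ← sub_sub]
        rw [← he]
        congr 1
        rw [Finset.sum_eq_single (idx j) (fun i _ hi => by rw [Pi.single_eq_of_ne hi, zero_mul])
          (fun h => absurd (Finset.mem_univ _) h), Pi.single_eq_same, smul_mul_assoc]
      rw [hs]
      refine nat_le_order _ _ fun i hi => ?_
      rw [map_sub, coeff_smul]
      rcases eq_or_ne i (m + j) with rfl | hne'
      · rw [smul_eq_mul, div_mul_cancel₀ _ hne, sub_self]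
      · have hlt : i < m + j := by omega
        rw [coeff_of_lt_order i (lt_of_lt_of_le (by exact_mod_cast hlt) ih),
          coeff_of_lt_order i (by rw [ho]; exact_mod_cast hlt), smul_zero, sub_zero]
  have hstab : ∀ (l j j' : ℕ), l + d ≤ j → j ≤ j' → ∀ i, coeff l (R j' i) = coeff l (R j i) := by
    intro l j j' hlj hjj' i
    induction j', hjj' using Nat.le_induction with
    | base => rfl
    | succ j' hjj' ih =>
      rw [hR, map_add, ih, Pi.single_apply, add_eq_left]
      split_ifs
      · rw [coeff_smul, coeff_of_lt_order l (by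
          rw [order_pow, had, nsmul_eq_mul, ← Nat.cast_mul]
          have h1 := Nat.div_add_mod j' d
          have h2 := Nat.mod_lt j' hd
          rw [mul_comm d] at h1
          exact_mod_cast (show l < j' / d * d by omega)), smul_zero]
      · simp
  let s : Fin d → PowerSeries k := fun i => PowerSeries.mk fun n => coeff n (R (n + d) i)
  have happrox : ∀ (n : ℕ) i, (n : ℕ∞) ≤ order (s i - R (n + d) i) := fun n i =>
    nat_le_order _ _ fun l hl => by
      simp only [s, map_sub, coeff_mk]
      rw [hstab l (l + d) (n + d) le_rfl (by omega) i, sub_self]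
  have hsA : ∀ i, s i ∈ A := fun i => hcl _ fun n => ⟨R (n + d) i, hRA _ i, happrox n i⟩
  have hf' : f = ∑ i, s i * g i := by
    rw [← sub_eq_zero, ← order_eq_top, ENat.eq_top_iff_forall_ge]
    intro n
    rw [show f - ∑ i, s i * g i = (f - ∑ i, R (n + d) i * g i) + ∑ i, (R (n + d) i - s i) * g i by
      simp only [sub_mul, Finset.sum_sub_distrib]; abel]
    refine (le_min ((herr (n + d)).trans' (by exact_mod_cast (show n ≤ m + (n + d) by omega)))
      (le_order_sum _ _ _ fun i _ => ?_)).trans (min_order_le_order_add _ _)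
    rw [order_mul, show R (n + d) i - s i = -(s i - R (n + d) i) by ring, order_neg]
    exact (happrox n i).trans le_self_add
  rw [hf']
  exact N.sum_mem fun i _ => N.smul_mem ⟨s i, hsA i⟩ (hgN i)

end CanonDualLib
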